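import Groth.Prelude.Def_EGA4b
import Groth.Prelude.Def_FlatCA
import Groth.Agent.S18708
import Groth.Agent.SkOpenLib.Local
import Groth.Agent.FlatLib.OpenFP

/-! Flatness of a cokernel near a point from the depth of the fibres of the kernel. -/

set_option autoImplicit false
set_option linter.style.haveILetI false
set_option linter.unusedSectionVars false
set_option maxHeartbeats 1000000

universe u

open IsLocalRing TensorProduct

namespace Groth.Agent.FlatNbhdLib

variable {A B : Type u} [CommRing A] [CommRing B] [Algebra A B]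

/-- Depth of a fibre stalk over either local ring. -/
theorem idealDepth_fibLocMod [IsNoetherianRing B] (q : Ideal B) [q.IsPrime] (E : Type u) [AddCommGroup E] [Module B E]
    [Module.Finite B E] :
    LocCoh.idealDepth (q.map (algebraMap B (EGA4.FibLocRing A B q))) (EGA4.FibLocMod A B q E) =
      LocCoh.depth (Localization.AtPrime q) (EGA4.FibLocMod A B q E) := by
  let Bq := Localization.AtPrime q
  let 𝔞 : Ideal Bq := (q.comap (algebraMap A B)).map (algebraMap A Bq)
  have h𝔞 : 𝔞 ≤ maximalIdeal Bq := by
    rw [← Localization.AtPrime.map_eq_maximalIdeal, Ideal.map_le_iff_le_comap]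
    intro a ha
    rw [Ideal.mem_comap, IsScalarTower.algebraMap_apply A B Bq]
    exact Ideal.mem_map_of_mem _ ha
  haveI : Nontrivial (EGA4.FibLocRing A B q) :=
    Submodule.Quotient.nontrivial_iff.mpr fun h => (maximalIdeal.isMaximal Bq).ne_top (top_le_iff.1 (h ▸ h𝔞))
  haveI : IsLocalRing (EGA4.FibLocRing A B q) :=
    IsLocalRing.of_surjective' (Ideal.Quotient.mk 𝔞) Ideal.Quotient.mk_surjective
  haveI : IsScalarTower Bq (EGA4.FibLocRing A B q) (EGA4.FibLocMod A B q E) :=
    @IsScalarTower.of_algebraMap_smul Bq (EGA4.FibLocRing A B q) _ _ _ _ _ _ fun (r : Bq) (m : EGA4.FibLocMod A B q E) => by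
      obtain ⟨y, rfl⟩ := Submodule.mkQ_surjective (𝔞 • (⊤ : Submodule Bq (LocalizedModule q.primeCompl E))) m
      rfl
  haveI : IsNoetherianRing Bq := IsLocalization.isNoetherianRing q.primeCompl _ inferInstance
  haveI : Module.Finite Bq (EGA4.FibLocMod A B q E) := Module.Finite.of_surjective (Submodule.mkQ _) (Submodule.mkQ_surjective _)
  rw [SkOpenLib.depth_of_surjective (R := Bq) (S := EGA4.FibLocRing A B q)
    (Ideal.Quotient.mk_surjective (I := 𝔞)) (EGA4.FibLocMod A B q E)]
  have : q.map (algebraMap B (EGA4.FibLocRing A B q)) = maximalIdeal (EGA4.FibLocRing A B q) := by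
    refine Eq.trans ?_ (IsLocalRing.map_maximalIdeal_of_surjective (Ideal.Quotient.mk 𝔞) Ideal.Quotient.mk_surjective)
    rw [← Localization.AtPrime.map_eq_maximalIdeal, Ideal.map_map]
    rfl
  rw [this]
  rfl

variable {F E0 E1 G : Type u}
  [AddCommGroup F] [Module B F] [Module A F] [IsScalarTower A B F]
  [AddCommGroup E0] [Module B E0] [Module A E0] [IsScalarTower A B E0] [Module.Flat A E0]
  [AddCommGroup E1] [Module B E1] [Module A E1] [IsScalarTower A B E1] [Module.Flat A E1]
  [AddCommGroup G] [Module B G] [Module A G] [IsScalarTower A B G]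
  (f : F →ₗ[B] E0) (u : E0 →ₗ[B] E1) (v : E1 →ₗ[B] G)
  (hf : Function.Injective f) (hfu : Function.Exact f u) (huv : Function.Exact u v) (hv : Function.Surjective v)

include hf hfu huv hv

/-- If the cokernel is flat at `q` then so is the kernel. -/
theorem flatAt_kernel (q : Ideal B) [q.IsPrime] (hG : FlatCA.FlatAt A q G) : FlatCA.FlatAt A q F := by
  let S := q.primeCompl
  let gF := LocalizedModule.mkLinearMap S F
  let g0 := LocalizedModule.mkLinearMap S E0
  let g1 := LocalizedModule.mkLinearMap S E1
  let gG := LocalizedModule.mkLinearMap S G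
  haveI : Module.Flat A (LocalizedModule S G) := hG
  haveI := DepthTwoLib.flat_localizedModule (A := A) E0 S
  haveI := DepthTwoLib.flat_localizedModule (A := A) E1 S
  let f' := IsLocalizedModule.map S gF g0 f
  let u' := IsLocalizedModule.map S g0 g1 u
  let v' := IsLocalizedModule.map S g1 gG v
  have hfu' : Function.Exact f' u' := IsLocalizedModule.map_exact S gF g0 g1 f u hfu
  have huv' : Function.Exact u' v' := IsLocalizedModule.map_exact S g0 g1 gG u v huv
  haveI : Module.Flat A (LinearMap.range u') :=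
    DepthTwoLib.flat_kernel ((LinearMap.range u').subtype.restrictScalars A) (v'.restrictScalars A)
      (Submodule.injective_subtype _)
      (fun x => (huv' x).trans ⟨fun ⟨y, hy⟩ => ⟨⟨x, y, hy⟩, rfl⟩, fun ⟨y, hy⟩ => hy ▸ y.2⟩)
      (IsLocalizedModule.map_surjective S g1 gG v hv)
  exact DepthTwoLib.flat_kernel (f'.restrictScalars A) (u'.rangeRestrict.restrictScalars A)
    (IsLocalizedModule.map_injective S gF g0 f hf)
    (fun x => Subtype.ext_iff.trans (hfu' x)) u'.surjective_rangeRestrict

variable [IsNoetherianRing A] [IsNoetherianRing B] [Module.Finite B F] [Module.Finite B E0] [Module.Finite B E1]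
  [Module.Finite B G]

/-- The punctured criterion at a prime. -/
theorem flatAt_iff_depth (q : Ideal B) [q.IsPrime]
    (hlt : ∀ r : PrimeSpectrum B, r.asIdeal < q → FlatCA.FlatAt A r.asIdeal G)
    (h0 : 2 ≤ LocCoh.idealDepth (q.map (algebraMap B (EGA4.FibLocRing A B q))) (EGA4.FibLocMod A B q E0))
    (h1 : 1 ≤ LocCoh.idealDepth (q.map (algebraMap B (EGA4.FibLocRing A B q))) (EGA4.FibLocMod A B q E1)) :
    2 ≤ LocCoh.idealDepth (q.map (algebraMap B (EGA4.FibLocRing A B q))) (EGA4.FibLocMod A B q F) ↔
      FlatCA.FlatAt A q G := by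
  rw [idealDepth_fibLocMod] at h0 h1 ⊢
  let p := q.comap (algebraMap A B)
  let Ap := Localization.AtPrime p
  let Bq := Localization.AtPrime q
  let S := q.primeCompl
  let φ : Ap →+* Bq := Localization.localRingHom p q (algebraMap A B) rfl
  letI : Algebra Ap Bq := φ.toAlgebra
  haveI : IsScalarTower A Ap Bq := IsScalarTower.of_algebraMap_eq fun a => by
    show algebraMap A Bq a = φ (algebraMap A Ap a)
    rw [Localization.localRingHom_to_map, IsScalarTower.algebraMap_apply A B Bq]
  haveI : IsLocalHom (algebraMap Ap Bq) := Localization.isLocalHom_localRingHom p q (algebraMap A B) rfl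
  haveI : IsNoetherianRing Bq := IsLocalization.isNoetherianRing S _ inferInstance
  haveI : IsNoetherianRing Ap := IsLocalization.isNoetherianRing p.primeCompl _ inferInstance
  letI : Module Ap (LocalizedModule S F) := Module.compHom _ φ
  letI : Module Ap (LocalizedModule S E0) := Module.compHom _ φ
  letI : Module Ap (LocalizedModule S E1) := Module.compHom _ φ
  letI : Module Ap (LocalizedModule S G) := Module.compHom _ φ
  haveI : IsScalarTower Ap Bq (LocalizedModule S F) := ⟨fun a b m => mul_smul (φ a) b m⟩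
  haveI : IsScalarTower Ap Bq (LocalizedModule S E0) := ⟨fun a b m => mul_smul (φ a) b m⟩
  haveI : IsScalarTower Ap Bq (LocalizedModule S E1) := ⟨fun a b m => mul_smul (φ a) b m⟩
  haveI : IsScalarTower Ap Bq (LocalizedModule S G) := ⟨fun a b m => mul_smul (φ a) b m⟩
  haveI : IsScalarTower A Bq (LocalizedModule S E0) := IsScalarTower.of_algebraMap_smul fun a m => by
    rw [IsScalarTower.algebraMap_apply A B Bq, algebraMap_smul, algebraMap_smul]
  haveI : IsScalarTower A Bq (LocalizedModule S E1) := IsScalarTower.of_algebraMap_smul fun a m => by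
    rw [IsScalarTower.algebraMap_apply A B Bq, algebraMap_smul, algebraMap_smul]
  haveI : IsScalarTower A Bq (LocalizedModule S G) := IsScalarTower.of_algebraMap_smul fun a m => by
    rw [IsScalarTower.algebraMap_apply A B Bq, algebraMap_smul, algebraMap_smul]
  have hA : ∀ (N : Type u) [AddCommGroup N] [Module Bq N] [Module A N] [IsScalarTower A Bq N] [Module Ap N]
      [IsScalarTower Ap Bq N], IsScalarTower A Ap N := fun N _ _ _ _ _ _ =>
    IsScalarTower.of_algebraMap_smul fun a m => by
      rw [← algebraMap_smul Bq (algebraMap A Ap a) m, ← IsScalarTower.algebraMap_apply A Ap Bq, algebraMap_smul]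
  haveI := hA (LocalizedModule S E0)
  haveI := hA (LocalizedModule S E1)
  haveI := hA (LocalizedModule S G)
  have hflat : ∀ (N : Type u) [AddCommGroup N] [Module A N] [Module Ap N] [IsScalarTower A Ap N],
      Module.Flat Ap N ↔ Module.Flat A N := fun N _ _ _ _ => Module.flat_iff_of_isLocalization Ap p.primeCompl N
  haveI : Module.Flat Ap (LocalizedModule S E0) := (hflat _).2 (DepthTwoLib.flat_localizedModule E0 S)
  haveI : Module.Flat Ap (LocalizedModule S E1) := (hflat _).2 (DepthTwoLib.flat_localizedModule E1 S)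
  let gF := LocalizedModule.mkLinearMap S F
  let g0 := LocalizedModule.mkLinearMap S E0
  let g1 := LocalizedModule.mkLinearMap S E1
  let gG := LocalizedModule.mkLinearMap S G
  let f' := (IsLocalizedModule.map S gF g0 f).extendScalarsOfIsLocalization S Bq
  let u' := (IsLocalizedModule.map S g0 g1 u).extendScalarsOfIsLocalization S Bq
  let v' := (IsLocalizedModule.map S g1 gG v).extendScalarsOfIsLocalization S Bq
  have hfib : ∀ (E : Type u) [AddCommGroup E] [Module B E],
      LocCoh.idealDepth (maximalIdeal Bq) (EGA4.FibMod Ap Bq (LocalizedModule S E)) =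
        LocCoh.depth Bq (EGA4.FibLocMod A B q E) := fun E _ _ =>
    CommAlgDim.idealDepth_congr _ (Submodule.quotEquivOfEq _ _ (by
      rw [EGA4.mB, ← Localization.AtPrime.map_eq_maximalIdeal, Ideal.map_map, ← IsScalarTower.algebraMap_eq]))
  rw [← hfib] at h0 h1 ⊢
  refine ((Groth.Agent.S18708.result Ap Bq (maximalIdeal Bq) _ _ _ _ f' u' v'
    (IsLocalizedModule.map_injective S gF g0 f hf) (IsLocalizedModule.map_exact S gF g0 g1 f u hfu)
    (IsLocalizedModule.map_exact S g0 g1 gG u v huv) (IsLocalizedModule.map_surjective S g1 gG v hv)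
    ?_ h0 h1).1).trans (hflat _)
  intro Q hQ
  haveI : IsScalarTower A Bq (LocalizedModule Q.asIdeal.primeCompl (LocalizedModule S G)) :=
    IsScalarTower.of_algebraMap_smul fun a m => by
      induction m using LocalizedModule.induction_on with
      | h x t => rw [LocalizedModule.smul'_mk, LocalizedModule.smul'_mk, algebraMap_smul]
  haveI : IsScalarTower A B (LocalizedModule Q.asIdeal.primeCompl (LocalizedModule S G)) :=
    IsScalarTower.of_algebraMap_smul fun a m => by
      rw [← algebraMap_smul Bq (algebraMap A B a) m, ← IsScalarTower.algebraMap_apply A B Bq, algebraMap_smul]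
  haveI := hA (LocalizedModule Q.asIdeal.primeCompl (LocalizedModule S G))
  show Module.Flat Ap _
  rw [hflat]
  let r := Q.asIdeal.comap (algebraMap B Bq)
  haveI := SkOpenLib.isLocalizedModule_localized_localized (M := G) q Q.asIdeal
  have hr : r < q := by
    refine lt_of_le_of_ne ?_ fun h => hQ ?_
    · rw [← IsLocalization.AtPrime.under_maximalIdeal Bq q]
      exact Ideal.comap_mono (le_maximalIdeal Q.isPrime.ne_top)
    · rw [← Localization.AtPrime.map_eq_maximalIdeal]
      exact Ideal.map_le_iff_le_comap.2 h.ge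
  exact FlatLib.flat_of_le r.primeCompl (LocalizedModule.mkLinearMap _ G) r.primeCompl
    ((LocalizedModule.mkLinearMap Q.asIdeal.primeCompl (LocalizedModule S G)).restrictScalars B ∘ₗ gG) le_rfl
    (hlt ⟨r, inferInstance⟩ hr)

/-- Flatness of the cokernel at a prime in terms of a neighbourhood. -/
theorem flatAt_iff_exists_nhd [Algebra.FiniteType A B] (J : Ideal B)
    (hGU : ∀ q : PrimeSpectrum B, ¬ J ≤ q.asIdeal → FlatCA.FlatAt A q.asIdeal G)
    (h0 : ∀ q : PrimeSpectrum B, J ≤ q.asIdeal →
      2 ≤ LocCoh.idealDepth (q.asIdeal.map (algebraMap B (EGA4.FibLocRing A B q.asIdeal))) (EGA4.FibLocMod A B q.asIdeal E0))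
    (h1 : ∀ q : PrimeSpectrum B, J ≤ q.asIdeal →
      1 ≤ LocCoh.idealDepth (q.asIdeal.map (algebraMap B (EGA4.FibLocRing A B q.asIdeal))) (EGA4.FibLocMod A B q.asIdeal E1))
    (n : PrimeSpectrum B) :
    FlatCA.FlatAt A n.asIdeal G ↔
      ∃ s : B, s ∉ n.asIdeal ∧ ∀ q : PrimeSpectrum B, s ∉ q.asIdeal →
        FlatCA.FlatAt A q.asIdeal F ∧
        (J ≤ q.asIdeal →
          2 ≤ LocCoh.idealDepth (q.asIdeal.map (algebraMap B (EGA4.FibLocRing A B q.asIdeal))) (EGA4.FibLocMod A B q.asIdeal F)) := by
  constructor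
  · intro h
    haveI : Algebra.FinitePresentation A B := Algebra.FinitePresentation.of_finiteType.1 inferInstance
    haveI : Module.FinitePresentation B G := Module.finitePresentation_of_finite B G
    have hopen : IsOpen (FlatLib.flatLocus A B G) := FlatLib.isOpen_flatLocus_fp
    obtain ⟨_, ⟨s, rfl⟩, hns, hsub⟩ :=
      PrimeSpectrum.isTopologicalBasis_basic_opens.exists_subset_of_mem_open (show n ∈ _ from h) hopen
    refine ⟨s, hns, fun q hq => ?_⟩
    have hG : ∀ r : PrimeSpectrum B, r.asIdeal ≤ q.asIdeal → FlatCA.FlatAt A r.asIdeal G := fun r hr =>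
      hsub (show s ∉ r.asIdeal from fun h' => hq (hr h'))
    exact ⟨flatAt_kernel f u v hf hfu huv hv q.asIdeal (hG q le_rfl), fun hJ =>
      (flatAt_iff_depth f u v hf hfu huv hv q.asIdeal (fun r hr => hG r hr.le) (h0 q hJ) (h1 q hJ)).2 (hG q le_rfl)⟩
  · rintro ⟨s, hns, hs⟩
    suffices ∀ q : PrimeSpectrum B, s ∉ q.asIdeal → FlatCA.FlatAt A q.asIdeal G from this n hns
    intro q
    induction hk : q.asIdeal.height.toNat using Nat.strong_induction_on generalizing q with
    | _ k ih =>
      intro hq
      by_cases hJ : J ≤ q.asIdeal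
      · refine (flatAt_iff_depth f u v hf hfu huv hv q.asIdeal (fun r hr => ?_) (h0 q hJ) (h1 q hJ)).1 ((hs q hq).2 hJ)
        refine ih _ ?_ r rfl fun h' => hq (hr.le h')
        rw [← hk, ← ENat.natCast_lt_natCast, ENat.natCast_toNat (Ideal.height_ne_top r.isPrime.ne_top),
          ENat.natCast_toNat (Ideal.height_ne_top q.isPrime.ne_top)]
        exact Ideal.height_strict_mono_of_isPrime hr
      · exact hGU q hJ

end Groth.Agent.FlatNbhdLib
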